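import Mathlib
import Cfsg.Agent.S4488
import Cfsg.Agent.S0165
import Cfsg.Agent.BrauerReynolds.Perfect
import Cfsg.Agent.ZStar.Reduce
import Cfsg.Agent.Blocks.PrincipalSum
import Cfsg.Agent.WielandtTwoP.RankFour
import Cfsg.Agent.DegPred.TwoP
import Cfsg.Agent.BrauerFew.Fixed

/-!
Tools for simple groups with three prime divisors.
-/

set_option autoImplicit false
set_option linter.style.haveILetI false
set_option linter.unusedSectionVars false

namespace CfsgLib.SmallCof

open Cfsg CfsgLib.CharBasics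
open scoped ComplexConjugate commutatorElement

universe u

variable {G : Type u} [Group G] [Finite G]

theorem perfect [IsSimpleGroup G] (hna : ∃ x y : G, x * y ≠ y * x) : commutator G = ⊤ := by
  rcases IsSimpleGroup.eq_bot_or_eq_top_of_normal (commutator G) inferInstance with h | h
  · obtain ⟨x, y, hxy⟩ := hna
    refine absurd ?_ hxy
    have hm : ⁅x, y⁆ ∈ commutator G := by
      rw [commutator_def]
      exact Subgroup.commutator_mem_commutator (Subgroup.mem_top x) (Subgroup.mem_top y)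
    rw [h, Subgroup.mem_bot] at hm
    exact commutatorElement_eq_one_iff_mul_comm.1 hm
  · exact h

theorem one_lt_deg [IsSimpleGroup G] (hna : ∃ x y : G, x * y ≠ y * x) {χ : IrrCharacter G} (h : χ ≠ oneChar) :
    1 < charDegree (χ : G → ℂ) := by
  haveI := Fintype.ofFinite G
  rcases Nat.lt_or_ge 1 (charDegree (χ : G → ℂ)) with h1 | h1
  · exact h1
  · exact absurd (BrauerReynolds.eq_oneChar_of_deg_one (perfect hna) χ
      (le_antisymm h1 (charDegree_pos χ.2))) h

theorem faithful [IsSimpleGroup G] {χ : IrrCharacter G} (h : χ ≠ oneChar) {g : G}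
    (hg : (χ : G → ℂ) g = (χ : G → ℂ) 1) : g = 1 := by
  haveI := Fintype.ofFinite G
  have hm : g ∈ charKer (χ : G → ℂ) (isCharacter_of_irr χ.2) := (mem_charKer _ g).2 hg
  rcases IsSimpleGroup.eq_bot_or_eq_top_of_normal _ (charKer_normal (isCharacter_of_irr χ.2)) with e | e
  · rw [e] at hm; exact hm
  · exact absurd (ZStar.eq_oneChar_of_const fun x =>
      (mem_charKer (isCharacter_of_irr χ.2) x).1 (e ▸ Subgroup.mem_top x)) h

/-- A faithful rational character bounds the Sylow exponents. -/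
theorem rational_bound {χ : G → ℂ} (hχ : IsCharacter G χ) (hf : ∀ g : G, χ g = χ 1 → g = 1)
    (hrat : ∀ j : ℕ, j.Coprime (Nat.card G) → ∀ g : G, χ (g ^ j) = χ g) {p : ℕ} (hp : p.Prime) {n : ℕ}
    (hn : charDegree χ = n) :
    (Nat.card G).factorization p ≤ ∑ i ∈ Finset.range (n + 1), n / ((p - 1) * p ^ i) := by
  refine Cfsg.Agent.S4488.result p hp χ hχ hf ⟨1, one_pos, hp.not_dvd_one, fun g => ?_⟩ n hn
  obtain ⟨q, hq⟩ := WielandtTwoP.exists_rat_of_pow_invariant hχ g fun j hj => hrat j hj g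
  rw [hq, ← eq_ratCast (algebraMap ℚ ℂ) q]
  exact IntermediateField.algebraMap_mem _ q

/-- Restriction. -/
theorem isCharacter_res {χ : G → ℂ} (hχ : IsCharacter G χ) (H : Subgroup G) :
    IsCharacter H (fun h => χ h) := by
  obtain ⟨n, ρ, rfl⟩ := hχ
  exact ⟨n, ρ.comp H.subtype, rfl⟩

/-- A character of degree divisible by a prime dividing the order once vanishes at singular elements. -/
theorem vanish {p : ℕ} (hp : p.Prime) (hdvd : p ∣ Nat.card G) (hsq : ¬ p ^ 2 ∣ Nat.card G) (χ : IrrCharacter G)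
    (hd : p ∣ charDegree (χ : G → ℂ)) {g : G} (hg : p ∣ orderOf g) : (χ : G → ℂ) g = 0 := by
  obtain ⟨n, ρ, hirr, hρ⟩ := χ.2
  haveI := hirr
  rw [← hρ]
  refine Cfsg.Agent.S0165.result ρ p 1 hp (by rwa [pow_one]) hsq ?_ g hg
  rw [pow_one, ← charDegree_rep ρ, hρ]
  exact hd

/-- An extension of a congruence class to an exponent prime to the order. -/
theorem exists_coprime_lift {N a b i : ℕ} (hN : N = a * b) (hab : a.Coprime b) (hi : i.Coprime a) :
    ∃ J : ℕ, J.Coprime N ∧ J ≡ i [MOD a] ∧ J ≡ 1 [MOD b] := by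
  obtain ⟨J, h1, h2⟩ := Nat.chineseRemainder hab i 1
  refine ⟨J, ?_, h1, h2⟩
  rw [hN, Nat.coprime_mul_iff_right]
  exact ⟨by rw [Nat.Coprime, h1.gcd_eq]; exact hi, by rw [Nat.Coprime, h2.gcd_eq]; exact Nat.gcd_one_left b⟩

/-- On an abelian subgroup the square norm of a character is at least its degree. -/
theorem norm_ge {χ : G → ℂ} (hχ : IsCharacter G χ) (A : Subgroup G) [IsMulCommutative A] [Fintype A] :
    ((charDegree χ * Nat.card A : ℕ) : ℝ) ≤ ∑ a : A, ‖χ a‖ ^ 2 := by
  classical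
  have hres := isCharacter_res hχ A
  obtain ⟨m, hm⟩ := classInner_characters_nat hres hres
  have h := BrauerFew.degree_le_norm hres hm
  have hd : charDegree (fun a : A => χ a) = charDegree χ := rfl
  rw [hd] at h
  rw [classInner_eq] at hm
  simp only [Complex.mul_conj'] at hm
  have h2 : ((∑ a : A, ‖χ a‖ ^ 2 : ℝ) : ℂ) = ((m * Nat.card A : ℕ) : ℂ) := by
    rw [Complex.ofReal_sum, Nat.cast_mul]
    rw [inv_mul_eq_iff_eq_mul₀ (Nat.cast_ne_zero.2 Nat.card_pos.ne')] at hm
    push_cast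
    rw [hm, mul_comm]
  rw [show (∑ a : A, ‖χ a‖ ^ 2 : ℝ) = ((m * Nat.card A : ℕ) : ℝ) by exact_mod_cast h2]
  exact_mod_cast Nat.mul_le_mul_right _ h

end CfsgLib.SmallCof
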