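import Mathlib
import Cfsg.Agent.SmallCof.Arith
import Cfsg.Agent.SmallCof.Tools
import Cfsg.Agent.S0948
import Cfsg.Agent.S4479
import Cfsg.Agent.S4480
import Cfsg.Agent.S0496
import Cfsg.Agent.H29.Dickson.GroupIso

/-!
Simple groups of order `4 · 3^A · r^B`.
-/

set_option autoImplicit false
set_option linter.style.haveILetI false
set_option linter.unusedSectionVars false

namespace CfsgLib.SmallCof

open Cfsg CfsgLib.CharBasics
open scoped ComplexConjugate

universe u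

theorem case_four {G : Type u} [Group G] [Finite G] [IsSimpleGroup G] (hna : ∃ x y : G, x * y ≠ y * x)
    {r A B : ℕ} (hr : r.Prime) (hr5 : 5 ≤ r) (hG : Nat.card G = 4 * (3 ^ A * r ^ B)) :
    Nonempty (G ≃* alternatingGroup (Fin 5)) := by
  classical
  haveI : Fintype G := Fintype.ofFinite G
  haveI := Fact.mk Nat.prime_two
  have hnab : ¬ IsMulCommutative G := fun h => by
    obtain ⟨x, y, hxy⟩ := hna
    exact hxy (h.is_comm.comm x y)
  set g₀ := 3 ^ A * r ^ B with hg₀def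
  have hg₀ : Odd g₀ := ((by decide : Odd 3).pow).mul ((hr.odd_of_ne_two (by omega)).pow)
  have hnc : ¬ ∃ N : Subgroup G, N.Normal ∧ Nat.card N = g₀ := by
    rintro ⟨N, hN, hc⟩
    rcases IsSimpleGroup.eq_bot_or_eq_top_of_normal N hN with rfl | rfl
    · rw [Subgroup.card_bot] at hc
      rw [← hc, mul_one] at hG
      obtain ⟨x, y, hxy⟩ := hna
      exact hxy (IsPGroup.commutative_of_card_eq_prime_sq (p := 2) (by rw [hG]; norm_num) x y)
    · rw [Subgroup.card_top, hG] at hc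
      have := hg₀.pos
      omega
  have hdiv : ∀ s : ℕ, s.Prime → s ∣ Nat.card G → s = 2 ∨ s = 3 ∨ s = r := by
    intro s hs hd
    rw [hG] at hd
    rcases hs.dvd_mul.1 hd with h | h
    · exact Or.inl ((Nat.prime_dvd_prime_iff_eq hs Nat.prime_two).1 (hs.dvd_of_dvd_pow (m := 2) (n := 2) h))
    rcases hs.dvd_mul.1 h with h | h
    · exact Or.inr (Or.inl ((Nat.prime_dvd_prime_iff_eq hs Nat.prime_three).1 (hs.dvd_of_dvd_pow h)))
    · exact Or.inr (Or.inr ((Nat.prime_dvd_prime_iff_eq hs hr).1 (hs.dvd_of_dvd_pow h)))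
  have hsupp : ∀ n : ℕ, Odd n → (∀ s : ℕ, s.Prime → s ∣ n → s ∣ Nat.card G) → Supp r n := by
    intro n hn h s hs hd
    refine (hdiv s hs (h s hs hd)).resolve_left fun e => ?_
    subst e
    exact Nat.not_even_iff_odd.2 hn (even_iff_two_dvd.2 hd)
  obtain ⟨P⟩ : Nonempty (Sylow 2 G) := inferInstance
  obtain ⟨hKlein, hone⟩ := ZStar.klein_setup hg₀ hG hnc P
  obtain ⟨M, hM⟩ := CfsgLib.Blocks.exists_modular Nat.prime_two
  obtain ⟨ζ₂, ζ₃, ζ₄, ε, hε, h2ne, h3ne, h23, h24, h34, hB, hval, hd2, hd3, hd4, hrel⟩ :=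
    Cfsg.Agent.S0948.result M hM P hKlein hone
  obtain ⟨J, hJ, hJ1⟩ : ∃ J ∈ (P : Subgroup G), J ≠ 1 := by
    by_contra h
    push Not at h
    have := hKlein.card_four
    rw [(Subgroup.eq_bot_iff_forall _).2 h, Subgroup.card_bot] at this
    omega
  have hJ2 : orderOf J = 2 := ZStar.klein_orderOf hKlein hJ hJ1
  obtain ⟨hv2, hv3, hv4⟩ := hval J hJ2
  have h4ne : (ζ₄ : G → ℂ) ≠ fun _ => 1 := fun e => by
    have := congrFun e J
    rw [hv4] at this
    norm_num at this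
  have hdeg : ∀ χ : IrrCharacter G, (χ : G → ℂ) 1 = (charDegree (χ : G → ℂ) : ℂ) := fun χ =>
    apply_one (isCharacter_of_irr χ.2)
  have hne1 : ∀ χ : IrrCharacter G, (χ : G → ℂ) ≠ (fun _ => 1) → χ ≠ oneChar := fun χ h e =>
    h (e ▸ funext fun g => oneChar_apply g)
  have hx2 := one_lt_deg hna (hne1 _ h2ne)
  have hx3 := one_lt_deg hna (hne1 _ h3ne)
  have hx4 := one_lt_deg hna (hne1 _ h4ne)
  have hrel1 := hrel 1 (by rw [orderOf_one]; exact odd_one)
  rw [hdeg, hdeg, hdeg] at hrel1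
  have hrelZ : 1 + (charDegree (ζ₂ : G → ℂ) : ℤ) + ε * charDegree (ζ₃ : G → ℂ) - charDegree (ζ₄ : G → ℂ) = 0 :=
    Int.cast_injective (α := ℂ) (by push_cast; exact hrel1)
  have hcP : 4 ∣ Nat.card (Subgroup.centralizer ((P : Subgroup G) : Set G)) := by
    rw [← hKlein.card_four]
    refine Subgroup.card_dvd_of_le fun x hx => Subgroup.mem_centralizer_iff.2 fun y hy => ?_
    haveI := hKlein.isMulCommutative
    exact congrArg Subtype.val (mul_comm' (⟨y, hy⟩ : (P : Subgroup G)) ⟨x, hx⟩)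
  rcases hε with rfl | rfl
  · exfalso
    obtain ⟨m, -, hform⟩ := Cfsg.Agent.S4480.result M hM g₀ hg₀ hG hnc P J hJ hJ2 ζ₂ ζ₃ ζ₄ 1 1 (-1) hB
      ⟨h2ne, h3ne, h4ne, h23, h24, h34⟩ ⟨Or.inl rfl, Or.inl rfl, Or.inr rfl⟩
      ⟨by rw [hv2]; norm_num, hv3, by rw [hv4]; norm_num⟩ (by norm_num) rfl
    generalize hq : charDegree (ζ₄ : G → ℂ) = q at *
    obtain ⟨k, rfl⟩ : ∃ k, q = 4 * k + 3 := ⟨q / 4, by omega⟩
    rw [show (4 * k + 3) ^ 3 - (4 * k + 3) = (4 * k + 2) * ((4 * k + 3) * (4 * k + 4)) from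
      Nat.sub_eq_of_eq_add (by ring)] at hform
    obtain ⟨c, hc⟩ := hcP
    rw [hG, hc] at hform
    have hk : Even k := by
      by_contra hk
      obtain ⟨l, rfl⟩ := Nat.not_even_iff_odd.1 hk
      refine Nat.not_even_iff_odd.2 hg₀ (even_iff_two_dvd.2 ⟨m ^ 3 * c * (4 * l + 3) * (8 * l + 7) * (l + 1), ?_⟩)
      nlinarith
    obtain ⟨l, rfl⟩ := hk
    have hs : ∀ s : ℕ, s.Prime → s ≠ 2 → s ∣ (2 * (l + l) + 1) * ((4 * (l + l) + 3) * ((l + l) + 1)) → s ∣ Nat.card G := by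
      intro s hs hs2 hd
      have h1 : s ∣ 4 * (8 * g₀) := by
        rw [show 4 * (8 * g₀) = 8 * (4 * g₀) by ring, hform]
        refine dvd_mul_of_dvd_right ?_ _
        exact hd.trans ⟨8, by ring⟩
      rcases hs.dvd_mul.1 h1 with h | h
      · exact absurd ((Nat.prime_dvd_prime_iff_eq hs Nat.prime_two).1 (hs.dvd_of_dvd_pow (m := 2) (n := 2) h)) hs2
      rcases hs.dvd_mul.1 h with h | h
      · exact absurd ((Nat.prime_dvd_prime_iff_eq hs Nat.prime_two).1 (hs.dvd_of_dvd_pow (m := 2) (n := 3) h)) hs2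
      · rw [hG]; exact h.mul_left 4
    have hne2 : ∀ n : ℕ, Odd n → ∀ s : ℕ, s ∣ n → s ≠ 2 := fun n hn s hd e =>
      Nat.not_even_iff_odd.2 hn (even_iff_two_dvd.2 (e ▸ hd))
    have o1 : Odd (2 * (l + l) + 1) := odd_two_mul_add_one _
    have o2 : Odd (4 * (l + l) + 3) := ⟨4 * l + 1, by ring⟩
    have o3 : Odd ((l + l) + 1) := ⟨l, by ring⟩
    have h3 := q_three hr5 (q := 4 * (l + l) + 3) (by omega)
      (hsupp _ o2 fun s hs' hd => hs s hs' (hne2 _ o2 s hd) (dvd_mul_of_dvd_right (dvd_mul_of_dvd_left hd _) _))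
      (by
        rw [show (4 * (l + l) + 3 - 1) / 2 = 2 * (l + l) + 1 by omega]
        exact hsupp _ o1 fun s hs' hd => hs s hs' (hne2 _ o1 s hd) (dvd_mul_of_dvd_left hd _))
      (by
        rw [show (4 * (l + l) + 3 + 1) / 4 = (l + l) + 1 by omega]
        exact hsupp _ o3 fun s hs' hd => hs s hs' (hne2 _ o3 s hd) (dvd_mul_of_dvd_right (dvd_mul_of_dvd_right hd _) _))
    omega
  -- the second sign pattern
  have hform := Cfsg.Agent.S4479.result M hM g₀ hg₀ hG hnc P J hJ hJ2 ζ₂ ζ₃ ζ₄ 1 (-1) (-1) hB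
    ⟨h2ne, h3ne, h4ne, h23, h24, h34⟩ ⟨Or.inl rfl, Or.inr rfl, Or.inr rfl⟩
    ⟨by rw [hv2]; norm_num, hv3, by rw [hv4]; norm_num⟩
  have hdd2 := degree_dvd ζ₂
  have hdd3 := degree_dvd ζ₃
  have hdd4 := degree_dvd ζ₄
  have hcJ : Nat.card (Subgroup.centralizer ({J} : Set G)) ∣ Nat.card G := Subgroup.card_subgroup_dvd_card _
  obtain ⟨U, hU⟩ : ∃ U, charDegree (ζ₃ : G → ℂ) = 2 * U + 1 := ⟨charDegree (ζ₃ : G → ℂ) / 2, by omega⟩
  obtain ⟨W, hW⟩ : ∃ W, charDegree (ζ₄ : G → ℂ) = 2 * W + 1 := ⟨charDegree (ζ₄ : G → ℂ) / 2, by omega⟩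
  have ha : charDegree (ζ₂ : G → ℂ) = 2 * U + 2 * W + 1 := by omega
  rw [hU] at hdd3 hd3 hx3
  rw [hW] at hdd4 hd4 hx4
  rw [ha] at hdd2 hd2
  rw [ha, hU, hW] at hform
  have hUo : Odd U := Nat.odd_iff.2 (by omega)
  have hWo : Odd W := Nat.odd_iff.2 (by omega)
  have hid : (U + W + 1) * U * W * Nat.card G * Nat.card (Subgroup.centralizer ((P : Subgroup G) : Set G)) ^ 2 =
      (2 * U + 2 * W + 1) * (2 * U + 1) * (2 * W + 1) * Nat.card (Subgroup.centralizer ({J} : Set G)) ^ 3 := by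
    have hUq : (U : ℚ) ≠ 0 := Nat.cast_ne_zero.2 (by omega)
    have hWq : (W : ℚ) ≠ 0 := Nat.cast_ne_zero.2 (by omega)
    have hUW : ((U : ℚ) + W + 1) ≠ 0 := by positivity
    have hc : (Nat.card (Subgroup.centralizer ((P : Subgroup G) : Set G)) : ℚ) ≠ 0 :=
      Nat.cast_ne_zero.2 Nat.card_pos.ne'
    rw [← @Nat.cast_inj ℚ]
    push_cast at hform ⊢
    rw [hform, show (2 * (U : ℚ) + 2 * W + 1 + 1) = 2 * ((U : ℚ) + W + 1) by ring,
      show (2 * (U : ℚ) + 1 + -1) = 2 * U by ring, show (2 * (W : ℚ) + 1 + -1) = 2 * W by ring]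
    field_simp
    ring
  have hs : ∀ s : ℕ, s.Prime → s ∣ (U + W + 1) * U * W → s ∣ Nat.card G := by
    intro s hs hd
    have h1 := (hd.mul_right (Nat.card G)).mul_right (Nat.card (Subgroup.centralizer ((P : Subgroup G) : Set G)) ^ 2)
    rw [hid] at h1
    rcases hs.dvd_mul.1 h1 with h | h
    · rcases hs.dvd_mul.1 h with h | h
      · rcases hs.dvd_mul.1 h with h | h
        · exact h.trans hdd2
        · exact h.trans hdd3
      · exact h.trans hdd4
    · exact (hs.dvd_of_dvd_pow h).trans hcJ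
  have h5S := hsupp (2 * U + 2 * W + 1) ⟨U + W, by ring⟩ fun s _ h => h.trans hdd2
  obtain ⟨rfl, rfl⟩ := degrees_five hr5 hUo.pos hWo.pos
    (hsupp _ (odd_two_mul_add_one U) fun s _ h => h.trans hdd3)
    (hsupp _ hUo fun s hs' h => hs s hs' (dvd_mul_of_dvd_left (dvd_mul_of_dvd_right h _) _))
    (hsupp _ (odd_two_mul_add_one W) fun s _ h => h.trans hdd4)
    (hsupp _ hWo fun s hs' h => hs s hs' (dvd_mul_of_dvd_right h _))
    h5S
    (hsupp _ ((hUo.add_odd hWo).add_one) fun s hs' h => hs s hs' (dvd_mul_of_dvd_left (dvd_mul_of_dvd_left h _) _))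
  norm_num at ha hU hW
  have hr' : r = 5 := ((h5S 5 (by norm_num) (by norm_num)).resolve_left (by norm_num)).symm
  subst hr'
  have hrat : ∀ j : ℕ, j.Coprime (Nat.card G) → ∀ g : G, (ζ₂ : G → ℂ) (g ^ j) = (ζ₂ : G → ℂ) g := by
    intro j hj g
    have hmem : ζ₂ ∈ principalBlock M G := by rw [hB]; exact Or.inr (Or.inl rfl)
    have hψB : Blocks.powChar hj ζ₂ ∈ principalBlock M G :=
      Blocks.powChar_mem_blockOf (χ := (oneChar : IrrCharacter G)) hj
        (fun g => by rw [oneChar_apply, oneChar_apply]) hmem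
    have hd : charDegree (Blocks.powChar hj ζ₂ : G → ℂ) = 5 := by
      rw [← ha]
      unfold charDegree
      rw [Blocks.powChar_apply, one_pow]
    rw [hB, Set.mem_setOf_eq] at hψB
    rcases hψB with h | h | h | h
    · rw [h] at hd
      norm_num [charDegree] at hd
    · exact congrFun (congrArg Subtype.val h) g
    · rw [h, hU] at hd; omega
    · rw [h, hW] at hd; omega
  have hb : ∀ p : ℕ, p.Prime → ∀ k : ℕ, p ^ k ∣ Nat.card G → k ≤ ∑ i ∈ Finset.range 6, 5 / ((p - 1) * p ^ i) :=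
    fun p hp k hk => ((hp.pow_dvd_iff_le_factorization Nat.card_pos.ne').1 hk).trans
      (rational_bound (isCharacter_of_irr ζ₂.2) (fun g => faithful (hne1 _ h2ne)) hrat hp ha)
  have hA : A ≤ 2 := (hb 3 Nat.prime_three A (by rw [hG]; exact (dvd_mul_right _ _).mul_left 4)).trans
    (by norm_num [Finset.sum_range_succ])
  have hB' : B ≤ 1 := (hb 5 (by norm_num) B (by rw [hG]; exact (dvd_mul_left _ _).mul_left 4)).trans
    (by norm_num [Finset.sum_range_succ])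
  refine H29.Dickson.iso_alternating_five_of_simple ?_
  have hle : Nat.card G ≤ 1092 := by
    rw [hG, hg₀def]
    interval_cases A <;> interval_cases B <;> norm_num
  have h6 := Cfsg.Agent.S0496.result hnab hle
  rw [hG, hg₀def] at h6 ⊢
  interval_cases A <;> interval_cases B <;> norm_num at h6 <;> norm_num

end CfsgLib.SmallCof
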