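import Mathlib
import Cfsg.Agent.SmallCof.Tools
import Cfsg.Agent.S0904
import Cfsg.Agent.S4503
import Cfsg.Agent.S0495
import Cfsg.Agent.S0496
import Cfsg.Agent.H29.Dickson.GroupIso

/-!
Simple groups of order `3 · 2^m · r` and the nonexistence of those of order `3 · 2^m · r^2`.
-/

set_option autoImplicit false
set_option linter.style.haveILetI false
set_option linter.unusedSectionVars false

namespace CfsgLib.SmallCof

open Cfsg CfsgLib.CharBasics
open scoped ComplexConjugate

universe u

variable {G : Type u} [Group G] [Finite G] [IsSimpleGroup G]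

/-- The centralizer of an element whose prime order divides the group order once. -/
theorem centralizer_once {p q r a b : ℕ} (hp : p.Prime) (hq : q.Prime) (hr : r.Prime) (hpq : p ≠ q) (hpr : p ≠ r)
    (hqr : q ≠ r) (hcard : Nat.card G = p ^ a * q ^ b * r) {z : G} (hz : orderOf z = r) :
    Subgroup.centralizer ({z} : Set G) = Subgroup.zpowers z := by
  haveI := Fact.mk hr
  have hne : Nat.card G ≠ 0 := Nat.card_pos.ne'
  have hf : (Nat.card G).factorization r = 1 := by
    refine le_antisymm (not_lt.1 fun h => ?_) ((hr.dvd_iff_one_le_factorization hne).1 (hcard ▸ dvd_mul_left r _))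
    have h2 := (hr.pow_dvd_iff_le_factorization hne (k := 2)).2 h
    rw [hcard, pow_two] at h2
    have h3 := Nat.dvd_of_mul_dvd_mul_right hr.pos h2
    rcases hr.dvd_mul.1 h3 with h | h
    · exact hpr ((Nat.prime_dvd_prime_iff_eq hr hp).1 (hr.dvd_of_dvd_pow h)).symm
    · exact hqr ((Nat.prime_dvd_prime_iff_eq hr hq).1 (hr.dvd_of_dvd_pow h)).symm
  let S : Sylow r G := Sylow.ofCard (Subgroup.zpowers z) (by rw [Nat.card_zpowers, hz, hf, pow_one])
  have hS : (S : Subgroup G) = Subgroup.zpowers z := rfl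
  have h := Cfsg.Agent.S0904.result p q r a b hp hq hpq hpr hqr hcard S
  rw [hS] at h
  change Subgroup.centralizer ((Subgroup.zpowers z : Subgroup G) : Set G) = _ at h
  rw [Subgroup.zpowers_eq_closure, Subgroup.centralizer_closure, ← Subgroup.zpowers_eq_closure] at h
  exact h

/-- No simple group has order `3 · 2^m · r^2`. -/
theorem not_three_sq (hna : ∃ x y : G, x * y ≠ y * x) {m r : ℕ} (hr : r.Prime) (hr5 : 5 ≤ r)
    (hG : Nat.card G = 2 ^ m * r ^ 2 * 3) : False := by
  classical
  haveI : Fintype G := Fintype.ofFinite G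
  haveI : Fintype (IrrCharacter G) := Fintype.ofFinite _
  haveI := Fact.mk Nat.prime_three
  have h23 : ¬ 3 ^ 2 ∣ Nat.card G := by
    intro h
    rw [hG, pow_two] at h
    rcases Nat.prime_three.dvd_mul.1 (Nat.dvd_of_mul_dvd_mul_right (by norm_num) h) with h | h
    · exact absurd ((Nat.prime_dvd_prime_iff_eq Nat.prime_three Nat.prime_two).1 (Nat.prime_three.dvd_of_dvd_pow h)) (by norm_num)
    · have := (Nat.prime_dvd_prime_iff_eq Nat.prime_three hr).1 (Nat.prime_three.dvd_of_dvd_pow h)
      omega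
  obtain ⟨x, hx⟩ := exists_prime_orderOf_dvd_card' (G := G) 3 (hG ▸ dvd_mul_left 3 _)
  have hx1 : x ≠ 1 := fun e => by rw [e, orderOf_one] at hx; norm_num at hx
  have hC := centralizer_once (a := m) (b := 2) Nat.prime_two hr Nat.prime_three (by omega) (by norm_num) (by omega) hG hx
  have hx3 : x ^ 3 = 1 := hx ▸ pow_orderOf_eq_one x
  -- `x` is conjugate to its inverse
  obtain ⟨g, hg⟩ : ∃ g : G, g * x * g⁻¹ = x⁻¹ := by
    by_contra hno
    push Not at hno
    have hne : Nat.card G ≠ 0 := Nat.card_pos.ne'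
    have hf : (Nat.card G).factorization 3 = 1 :=
      le_antisymm (not_lt.1 fun h => h23 ((Nat.prime_three.pow_dvd_iff_le_factorization hne).2 h))
        ((Nat.prime_three.dvd_iff_one_le_factorization hne).1 (hG ▸ dvd_mul_left 3 _))
    let S : Sylow 3 G := Sylow.ofCard (Subgroup.zpowers x) (by rw [Nat.card_zpowers, hx, hf, pow_one])
    have hN : Subgroup.normalizer ((S : Subgroup G) : Set G) ≤ Subgroup.centralizer ((S : Subgroup G) : Set G) := by
      intro g hg
      change g ∈ Subgroup.centralizer ((Subgroup.zpowers x : Subgroup G) : Set G)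
      rw [Subgroup.zpowers_eq_closure, Subgroup.centralizer_closure, Subgroup.mem_centralizer_singleton_iff]
      have hm : g * x * g⁻¹ ∈ Subgroup.zpowers x :=
        (Subgroup.mem_normalizer_iff.1 hg x).1 (Subgroup.mem_zpowers x)
      obtain ⟨k, hk⟩ := Subgroup.mem_zpowers_iff.1 hm
      rw [← zpow_mod_orderOf, hx] at hk
      have hk0 := Int.emod_nonneg k (by norm_num : ((3 : ℕ) : ℤ) ≠ 0)
      have hk1 := Int.emod_lt_of_pos k (by norm_num : (0 : ℤ) < (3 : ℕ))
      generalize hi : k % ((3 : ℕ) : ℤ) = i at hk hk0 hk1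
      obtain rfl | rfl | rfl : i = 0 ∨ i = 1 ∨ i = 2 := by omega
      · rw [zpow_zero, eq_comm, conj_eq_one_iff] at hk
        exact absurd hk hx1
      · rw [zpow_one, eq_mul_inv_iff_mul_eq] at hk
        exact hk.symm
      · refine absurd ?_ (hno g)
        rw [← hk, show ((2 : ℤ)) = ((2 : ℕ) : ℤ) from rfl, zpow_natCast]
        exact eq_inv_of_mul_eq_one_left (by rw [← pow_succ]; exact hx3)
    have hc := MonoidHom.ker_transferSylow_isComplement' S hN
    have hmul := hc.card_mul
    have hcS : Nat.card (S : Subgroup G) = 3 := by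
      change Nat.card (Subgroup.zpowers x) = 3
      rw [Nat.card_zpowers, hx]
    rcases IsSimpleGroup.eq_bot_or_eq_top_of_normal (MonoidHom.transferSylow S hN).ker inferInstance with e | e <;>
      rw [e] at hmul
    · rw [Subgroup.card_bot, one_mul, hcS] at hmul
      obtain ⟨a, b, hab⟩ := hna
      haveI := isCyclic_of_prime_card (α := G) hmul.symm
      exact hab (mul_comm' a b)
    · rw [Subgroup.card_top, hcS] at hmul
      have := Nat.card_pos (α := G)
      omega
  -- integral values at `x`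
  have hinv : ∀ χ : IrrCharacter G, (χ : G → ℂ) x⁻¹ = (χ : G → ℂ) x := fun χ =>
    (apply_isConj (isCharacter_of_irr χ.2) (isConj_iff.2 ⟨g, hg⟩)).symm
  have hpw : ∀ j : ℕ, j.Coprime (Nat.card G) → ∀ χ : IrrCharacter G, (χ : G → ℂ) (x ^ j) = (χ : G → ℂ) x := by
    intro j hj χ
    rw [← pow_mod_orderOf, hx]
    have hj3 : j % 3 ≠ 0 := fun e => by
      have h := (Nat.Coprime.coprime_dvd_right (hG ▸ dvd_mul_left 3 _) hj).gcd_eq_one
      rw [Nat.gcd_comm, Nat.gcd_eq_left (Nat.dvd_of_mod_eq_zero e)] at h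
      omega
    obtain h | h : j % 3 = 1 ∨ j % 3 = 2 := by omega
    · rw [h, pow_one]
    · rw [h, show x ^ 2 = x⁻¹ from eq_inv_of_mul_eq_one_left (by rw [← pow_succ]; exact hx3), hinv]
  have hint : ∀ χ : IrrCharacter G, ∃ v : ℤ, (χ : G → ℂ) x = v := fun χ => by
    obtain ⟨q, hq⟩ := WielandtTwoP.exists_rat_of_pow_invariant (isCharacter_of_irr χ.2) x fun j hj => hpw j hj χ
    obtain ⟨v, rfl⟩ := WielandtTwoP.exists_int_of_rat hq (isIntegral_apply (isCharacter_of_irr χ.2) x)
    exact ⟨v, by rw [hq]; norm_cast⟩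
  choose v hv using hint
  have hv1 : v oneChar = 1 := Int.cast_injective (α := ℂ) (by rw [← hv, oneChar_apply, Int.cast_one])
  have hd1 : charDegree ((oneChar : IrrCharacter G) : G → ℂ) = 1 := by
    norm_num [charDegree, oneChar_apply]
  have hsum : ∑ χ, v χ ^ 2 = 3 := by
    apply Int.cast_injective (α := ℝ)
    have h := sum_normSq_col x
    rw [hC, Nat.card_zpowers, hx] at h
    push_cast
    refine Eq.trans ?_ h
    refine Finset.sum_congr rfl fun χ _ => ?_
    rw [hv, Complex.norm_intCast, sq_abs]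
  have hlin : ∑ χ : IrrCharacter G, (charDegree (χ : G → ℂ) : ℤ) * v χ = 0 := by
    apply Int.cast_injective (α := ℂ)
    push_cast
    refine Eq.trans ?_ (sum_mul_degree hx1)
    exact Finset.sum_congr rfl fun χ _ => by rw [hv]
  set T := (Finset.univ.erase (oneChar : IrrCharacter G)).filter fun χ => v χ ≠ 0 with hT
  have hTsq : ∑ χ ∈ T, v χ ^ 2 = 2 := by
    rw [← Finset.add_sum_erase _ _ (Finset.mem_univ (oneChar : IrrCharacter G)), hv1] at hsum
    rw [hT, Finset.sum_filter_of_ne (p := fun χ => v χ ≠ 0) (fun χ _ h e => h (by rw [e]; norm_num))]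
    linarith
  have hTlin : 1 + ∑ χ ∈ T, (charDegree (χ : G → ℂ) : ℤ) * v χ = 0 := by
    rw [← Finset.add_sum_erase _ _ (Finset.mem_univ (oneChar : IrrCharacter G)), hv1, hd1, Nat.cast_one, one_mul] at hlin
    rw [hT, Finset.sum_filter_of_ne (p := fun χ => v χ ≠ 0) (fun χ _ h e => h (by rw [e, mul_zero]))]
    linarith
  have hone : ∀ χ ∈ T, 1 ≤ v χ ^ 2 := fun χ hχ => by
    have := (Finset.mem_filter.1 hχ).2
    have : 0 < v χ ^ 2 := by positivity
    omega
  have hcard2 : T.card = 2 := by
    have h1 := Finset.card_nsmul_le_sum T _ 1 hone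
    rw [hTsq, nsmul_eq_mul, mul_one] at h1
    norm_cast at h1
    rcases Nat.lt_or_ge T.card 2 with h | h
    · interval_cases h' : T.card
      · rw [Finset.card_eq_zero.1 h'] at hTsq
        norm_num at hTsq
      · obtain ⟨c, hc⟩ := Finset.card_eq_one.1 h'
        rw [hc, Finset.sum_singleton] at hTsq
        have : -1 ≤ v c ∧ v c ≤ 1 := ⟨by nlinarith, by nlinarith⟩
        obtain e | e | e : v c = -1 ∨ v c = 0 ∨ v c = 1 := by omega
        all_goals rw [e] at hTsq; norm_num at hTsq
    · omega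
  obtain ⟨a, b, hab, hTab⟩ := Finset.card_eq_two.1 hcard2
  have hmem : ∀ χ : IrrCharacter G, χ ∈ T ↔ χ ≠ oneChar ∧ v χ ≠ 0 := fun χ => by simp [hT]
  have hdeg : ∀ χ ∈ T, (charDegree (χ : G → ℂ)).Coprime 3 ∧ 1 < charDegree (χ : G → ℂ) := fun χ hχ => by
    refine ⟨(Nat.prime_three.coprime_iff_not_dvd.2 fun hd => ((hmem χ).1 hχ).2 ?_).symm, one_lt_deg hna ((hmem χ).1 hχ).1⟩
    have h := vanish Nat.prime_three (hG ▸ dvd_mul_left 3 _) h23 χ hd (g := x) (by rw [hx])
    rw [hv] at h
    exact_mod_cast h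
  have key : ∀ a b : IrrCharacter G, a ≠ b → T = {a, b} → Odd (charDegree (a : G → ℂ)) → False := by
    intro a b hab hTab hodd
    have haT : a ∈ T := by rw [hTab]; simp
    have hbT : b ∈ T := by rw [hTab]; simp
    rw [hTab, Finset.sum_pair hab] at hTsq hTlin
    have hva : v a = 1 ∨ v a = -1 := sq_eq_one_iff.1 (by have := hone a haT; have := hone b hbT; omega)
    have hvb : v b = 1 ∨ v b = -1 := sq_eq_one_iff.1 (by have := hone a haT; have := hone b hbT; omega)
    have hdd := degree_dvd a
    have hde := degree_dvd b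
    rw [hG] at hdd hde
    have hd := (hdeg a haT).1.dvd_of_dvd_mul_right hdd
    have he := (hdeg b hbT).1.dvd_of_dvd_mul_right hde
    obtain ⟨hd1', he1'⟩ := (hdeg a haT).2, (hdeg b hbT).2
    generalize hda : charDegree (a : G → ℂ) = d at *
    generalize hdb : charDegree (b : G → ℂ) = e at *
    have hed : e = d + 1 ∨ e + 1 = d := by
      rcases hva with h | h <;> rcases hvb with h' | h' <;> rw [h, h'] at hTlin <;> omega
    have hdr : d ∣ r ^ 2 := (Nat.Coprime.pow_right m (hodd.coprime_two_right)).dvd_of_dvd_mul_left hd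
    obtain ⟨i, hi2, rfl⟩ := (Nat.dvd_prime_pow hr).1 hdr
    have hi0 : i ≠ 0 := fun e => by rw [e, pow_zero] at hd1'; omega
    have her : e.Coprime r := by
      refine (hr.coprime_iff_not_dvd.2 fun h => ?_).symm
      have hri : r ∣ r ^ i := dvd_pow_self r hi0
      rcases hed with h' | h'
      · rw [h', Nat.dvd_add_right hri] at h; exact hr.not_dvd_one h
      · rw [← h', Nat.dvd_add_right h] at hri; exact hr.not_dvd_one hri
    obtain ⟨k, -, rfl⟩ := (Nat.dvd_prime_pow Nat.prime_two).1 ((her.pow_right 2).dvd_of_dvd_mul_right he)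
    -- the even degree is `r ± 1`
    obtain rfl : i = 1 := by
      by_contra hi1
      obtain rfl : i = 2 := by omega
      obtain ⟨l, hl⟩ : Odd r := hr.odd_of_ne_two (by omega)
      rcases hed with h | h
      · have hk : k ≤ 1 := by
          by_contra hk
          obtain ⟨c, hc⟩ := pow_dvd_pow 2 (show 2 ≤ k by omega)
          rw [h, hl] at hc
          ring_nf at hc
          omega
        have := Nat.pow_le_pow_right (show 0 < 2 by norm_num) hk
        nlinarith
      · have hmul : (2 * l) * (2 * l + 2) = 2 ^ k := by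
          rw [hl] at h; nlinarith
        obtain ⟨s, -, hs⟩ := (Nat.dvd_prime_pow Nat.prime_two).1 (hmul ▸ dvd_mul_right _ _)
        obtain ⟨t, -, ht⟩ := (Nat.dvd_prime_pow Nat.prime_two).1 (hmul ▸ dvd_mul_left _ _)
        have hst : s < t := (Nat.pow_lt_pow_iff_right (by norm_num : 1 < 2)).1 (by omega : 2 ^ s < 2 ^ t)
        have h2 : 2 ^ s ∣ 2 := by
          have h' := pow_dvd_pow 2 hst.le
          rw [← ht, ← hs, Nat.dvd_add_right dvd_rfl] at h'
          rwa [← hs]
        have := Nat.le_of_dvd (by norm_num) h2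
        omega
    rw [pow_one] at hed
    -- the even degree character is rational
    have hrat : ∀ j : ℕ, j.Coprime (Nat.card G) → ∀ g : G, (b : G → ℂ) (g ^ j) = (b : G → ℂ) g := by
      intro j hj g
      have hval : v (Blocks.powChar hj b) = v b :=
        Int.cast_injective (α := ℂ) (by rw [← hv, ← hv, Blocks.powChar_apply, hpw j hj])
      have hdj : charDegree (Blocks.powChar hj b : G → ℂ) = 2 ^ k := by
        rw [← hdb]
        unfold charDegree
        rw [Blocks.powChar_apply, one_pow]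
      have hm : Blocks.powChar hj b ∈ T := by
        refine (hmem _).2 ⟨fun e => ?_, by rw [hval]; exact ((hmem b).1 hbT).2⟩
        rw [e, hd1] at hdj
        omega
      rw [hTab, Finset.mem_insert, Finset.mem_singleton] at hm
      rcases hm with e | e
      · rw [e, hda, pow_one] at hdj
        omega
      · exact congrFun (congrArg Subtype.val e) g
    have hne : b ≠ oneChar := ((hmem b).1 hbT).1
    have hb := rational_bound (isCharacter_of_irr b.2) (fun g => faithful hne) hrat hr hdb
    have h2 : 2 ≤ (Nat.card G).factorization r :=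
      (hr.pow_dvd_iff_le_factorization Nat.card_pos.ne').1 (hG ▸ (dvd_mul_left _ _).mul_right 3)
    have hs : ∑ i ∈ Finset.range (2 ^ k + 1), 2 ^ k / ((r - 1) * r ^ i) ≤ 1 := by
      rw [Finset.sum_eq_single 0]
      · rw [pow_zero, mul_one]
        exact Nat.lt_succ_iff.1 ((Nat.div_lt_iff_lt_mul (by omega)).2 (by omega))
      · intro i _ hi
        refine Nat.div_eq_of_lt ?_
        have : r ≤ r ^ i := Nat.le_self_pow hi r
        have := Nat.mul_le_mul (show 4 ≤ r - 1 by omega) this
        omega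
      · simp
    omega
  rw [hTab, Finset.sum_pair hab] at hTlin
  rcases Nat.even_or_odd (charDegree (a : G → ℂ)) with h | h
  · refine key b a hab.symm (hTab.trans (Finset.pair_comm a b)) ?_
    rw [← Int.odd_coe_nat]
    have h' : Even ((charDegree (a : G → ℂ) : ℤ) * v a) := ((Int.even_coe_nat _).2 h).mul_right _
    have : Odd ((charDegree (b : G → ℂ) : ℤ) * v b) := by
      rw [Int.odd_iff]
      rw [Int.even_iff] at h'
      omega
    exact (Int.odd_mul.1 this).1
  · exact key a b hab hTab h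

/-- The simple groups of order `3 · 2^m · r`. -/
theorem three_once (hna : ∃ x y : G, x * y ≠ y * x) {m r : ℕ} (hr : r.Prime) (hr5 : 5 ≤ r)
    (hG : Nat.card G = 2 ^ m * 3 ^ 1 * r) :
    Nonempty (G ≃* alternatingGroup (Fin 5)) ∨
      Nonempty (G ≃* Matrix.ProjectiveSpecialLinearGroup (Fin 2) (ZMod 7)) := by
  classical
  haveI : Fintype G := Fintype.ofFinite G
  haveI : Fintype (IrrCharacter G) := Fintype.ofFinite _
  haveI := Fact.mk hr
  haveI := Fact.mk Nat.prime_two
  have hrd : r ∣ Nat.card G := hG ▸ dvd_mul_left r _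
  have hco : (2 ^ m * 3 ^ 1).Coprime r :=
    ((Nat.coprime_primes Nat.prime_two hr).2 (by omega)).pow_left m |>.mul_left
      (((Nat.coprime_primes Nat.prime_three hr).2 (by omega)).pow_left 1)
  have hrsq : ¬ r ^ 2 ∣ Nat.card G := fun h => by
    rw [hG, pow_two] at h
    exact (hr.coprime_iff_not_dvd.1 hco.symm) (Nat.dvd_of_mul_dvd_mul_right hr.pos h)
  obtain ⟨y, hy⟩ := exists_prime_orderOf_dvd_card' (G := G) r hrd
  have hy1 : y ≠ 1 := fun e => by rw [e, orderOf_one] at hy; exact hr.one_lt.ne hy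
  have hz : ∀ z ∈ Subgroup.zpowers y, z ≠ 1 → Nat.card (Subgroup.centralizer ({z} : Set G)) = r := by
    intro z hz hz1
    have ho : orderOf z = r :=
      (hr.eq_one_or_self_of_dvd _ (hy ▸ orderOf_dvd_of_mem_zpowers hz)).resolve_left (fun e => hz1 (orderOf_eq_one_iff.1 e))
    rw [centralizer_once (a := m) (b := 1) Nat.prime_two Nat.prime_three hr (by norm_num) (by omega) (by omega) hG ho,
      Nat.card_zpowers, ho]
  -- a character of degree three
  obtain ⟨θ, hθ1, hθy, hθo⟩ : ∃ θ : IrrCharacter G, θ ≠ oneChar ∧ (θ : G → ℂ) y ≠ 0 ∧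
      Odd (charDegree (θ : G → ℂ)) := by
    by_contra hno
    push Not at hno
    have h := sum_mul_degree hy1
    rw [← Finset.add_sum_erase _ _ (Finset.mem_univ (oneChar : IrrCharacter G)), oneChar_apply, mul_one,
      Finset.sum_congr rfl (g := fun χ : IrrCharacter G => 2 * (((charDegree (χ : G → ℂ) / 2 : ℕ) : ℂ) * (χ : G → ℂ) y))
        (fun χ hχ => ?_)] at h
    · rw [← Finset.mul_sum, show (charDegree ((oneChar : IrrCharacter G) : G → ℂ)) = 1 by
        norm_num [charDegree, oneChar_apply]] at h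
      have hi : IsIntegral ℤ (∑ χ ∈ Finset.univ.erase (oneChar : IrrCharacter G),
          ((charDegree (χ : G → ℂ) / 2 : ℕ) : ℂ) * (χ : G → ℂ) y) :=
        IsIntegral.sum _ fun χ _ => (isIntegral_algebraMap (x := ((charDegree (χ : G → ℂ) / 2 : ℕ) : ℤ))).mul
          (isIntegral_apply (isCharacter_of_irr χ.2) y)
      obtain ⟨n, hn⟩ := WielandtTwoP.exists_int_of_rat (q := -1 / 2) (by push_cast; linear_combination h / 2) hi
      have : (-1 : ℤ) = 2 * n := Int.cast_injective (α := ℚ) (by push_cast; linarith)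
      omega
    · rcases eq_or_ne ((χ : G → ℂ) y) 0 with h0 | h0
      · rw [h0]; ring
      · obtain ⟨c, hc⟩ := Nat.not_odd_iff_even.1 (hno χ (Finset.ne_of_mem_erase hχ) h0)
        rw [hc, show (c + c) / 2 = c by omega]
        push_cast
        ring
  have hθ3 : charDegree (θ : G → ℂ) = 3 := by
    have hd := degree_dvd θ
    rw [hG] at hd
    have hnr : ¬ r ∣ charDegree (θ : G → ℂ) := fun h => hθy (vanish hr hrd hrsq θ h (by rw [hy]))
    have h3 := ((hr.coprime_iff_not_dvd.2 hnr).symm).dvd_of_dvd_mul_right hd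
    rw [pow_one] at h3
    rcases Nat.prime_three.eq_one_or_self_of_dvd _
      ((hθo.coprime_two_right.pow_right m).dvd_of_dvd_mul_left h3) with h | h
    · exact absurd h (one_lt_deg hna hθ1).ne'
    · exact h
  have hf := fun g => faithful (g := g) hθ1
  have hr7 : r ≤ 7 := by
    have h := Cfsg.Agent.S4503.result r hr hrd hrsq (fun H hH hc => ?_) _ (isCharacter_of_irr θ.2) hf
    · omega
    rcases IsSimpleGroup.eq_bot_or_eq_top_of_normal H hH with rfl | rfl
    · rw [Subgroup.card_bot] at hc; omega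
    · rw [Subgroup.card_top, hG] at hc
      have : 2 ^ m * 3 ^ 1 = 1 := Nat.eq_of_mul_eq_mul_right hr.pos (by rw [hc, one_mul])
      have := Nat.one_le_two_pow (n := m)
      omega
  -- few characters of degree three
  have hN : ∀ s : Finset (IrrCharacter G), (∀ χ ∈ s, charDegree (χ : G → ℂ) = 3) → s.card ≤ 3 := by
    intro s hs
    set R := Subgroup.zpowers y with hR
    haveI : Fintype R := Fintype.ofFinite R
    have hRc : Nat.card R = r := by rw [hR, Nat.card_zpowers, hy]
    have h1 : oneChar ∉ s := fun h => by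
      have := hs _ h
      norm_num [charDegree, oneChar_apply] at this
    set E := Finset.univ.erase (1 : R) with hE
    have hEc : E.card = r - 1 := by
      rw [hE, Finset.card_erase_of_mem (Finset.mem_univ _), Finset.card_univ, ← Nat.card_eq_fintype_card, hRc]
    have htot : ∑ χ : IrrCharacter G, ∑ z ∈ E, ‖(χ : G → ℂ) z‖ ^ 2 = ((r - 1 : ℕ) : ℝ) * r := by
      rw [Finset.sum_comm, Finset.sum_congr rfl (g := fun _ => (r : ℝ)) (fun z hz' => ?_), Finset.sum_const, hEc,
        nsmul_eq_mul]
      rw [sum_normSq_col, hz z z.2 fun e => Finset.ne_of_mem_erase hz' (Subtype.ext e)]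
    have hlow : ∀ χ ∈ s, (3 * r - 9 : ℝ) ≤ ∑ z ∈ E, ‖(χ : G → ℂ) z‖ ^ 2 := fun χ hχ => by
      have h := norm_ge (isCharacter_of_irr χ.2) R
      rw [← Finset.add_sum_erase _ _ (Finset.mem_univ (1 : R)), hs χ hχ, hRc, OneMemClass.coe_one,
        apply_one (isCharacter_of_irr χ.2), hs χ hχ, Complex.norm_natCast] at h
      push_cast at h
      linarith
    have hle : ∑ χ ∈ insert oneChar s, ∑ z ∈ E, ‖(χ : G → ℂ) z‖ ^ 2 ≤ ((r - 1 : ℕ) : ℝ) * r := by
      rw [← htot]
      exact Finset.sum_le_sum_of_subset_of_nonneg (Finset.subset_univ _) fun χ _ _ =>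
        Finset.sum_nonneg fun z _ => sq_nonneg _
    have hsum := Finset.card_nsmul_le_sum s _ _ hlow
    rw [Finset.sum_insert h1, Finset.sum_congr rfl (g := fun _ => (1 : ℝ)) (fun z _ => by rw [oneChar_apply]; norm_num),
      Finset.sum_const, hEc] at hle
    rw [nsmul_eq_mul] at hsum hle
    by_contra hc
    have : (4 : ℝ) ≤ s.card := by exact_mod_cast (show 4 ≤ s.card by omega)
    have h5 : (5 : ℝ) ≤ r := by exact_mod_cast hr5
    have h7 : (r : ℝ) ≤ 7 := by exact_mod_cast hr7
    rw [Nat.cast_sub (by omega)] at hle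
    push_cast at hle
    nlinarith
  -- the values at `y` are irrational
  obtain ⟨j, hj, hjy⟩ : ∃ j : ℕ, j.Coprime (Nat.card G) ∧ (θ : G → ℂ) (y ^ j) ≠ (θ : G → ℂ) y := by
    by_contra hno
    push Not at hno
    have hall : ∀ k : ℕ, k.Coprime r → (θ : G → ℂ) (y ^ k) = (θ : G → ℂ) y := fun k hk => by
      obtain ⟨J, hJ, hJk, -⟩ := exists_coprime_lift (N := Nat.card G) (a := r) (b := 2 ^ m * 3 ^ 1) (by rw [hG, mul_comm]) hco.symm hk
      rw [← pow_eq_pow_iff_modEq.2 (show J ≡ k [MOD orderOf y] by rw [hy]; exact hJk)]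
      exact hno J hJ
    have hrat : ∀ j : ℕ, j.Coprime (Nat.card (Subgroup.zpowers y)) → ∀ h : Subgroup.zpowers y,
        (θ : G → ℂ) ((h ^ j : Subgroup.zpowers y) : G) = (θ : G → ℂ) h := by
      intro j hj h
      rw [Nat.card_zpowers, hy] at hj
      obtain ⟨k, hk⟩ := (Submonoid.mem_powers_iff _ _).1 (mem_powers_iff_mem_zpowers.2 h.2)
      rw [Subgroup.coe_pow, ← hk, ← pow_mul]
      rcases hr.eq_one_or_self_of_dvd _ (Nat.gcd_dvd_right k r) with e | e
      · rw [hall _ e, hall _ (Nat.Coprime.mul_left e hj)]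
      · have hd : orderOf y ∣ k := by rw [hy, ← e]; exact Nat.gcd_dvd_left k r
        rw [orderOf_dvd_iff_pow_eq_one.1 hd, orderOf_dvd_iff_pow_eq_one.1 (hd.mul_right j)]
    have hb := rational_bound (isCharacter_res (isCharacter_of_irr θ.2) (Subgroup.zpowers y))
      (fun h e => Subtype.ext (hf h e)) hrat hr (n := 3) hθ3
    rw [Nat.card_zpowers, hy, hr.factorization_self, Finset.sum_eq_zero fun i _ => Nat.div_eq_of_lt ?_] at hb
    · exact absurd hb (by norm_num)
    · exact lt_of_lt_of_le (by omega) (Nat.le_mul_of_pos_right _ (pow_pos hr.pos i))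
  -- the values at `2`-elements are rational
  obtain ⟨T⟩ : Nonempty (Sylow 2 G) := inferInstance
  have hT : Nat.card (T : Subgroup G) = 2 ^ m := by
    have ho : (3 ^ 1 * r).Coprime 2 :=
      (Nat.Coprime.mul_left (by norm_num) ((Nat.coprime_primes hr Nat.prime_two).2 (by omega)))
    rw [Sylow.card_eq_multiplicity, hG, mul_assoc,
      Nat.factorization_mul_apply_of_coprime ((ho.pow_right m).symm), Nat.Prime.factorization_pow Nat.prime_two,
      Nat.factorization_eq_zero_of_not_dvd (Nat.prime_two.coprime_iff_not_dvd.1 ho.symm)]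
    simp
  have hratT : ∀ i : ℕ, i.Coprime (Nat.card (T : Subgroup G)) → ∀ t : (T : Subgroup G),
      (θ : G → ℂ) ((t ^ i : (T : Subgroup G)) : G) = (θ : G → ℂ) t := by
    intro i hi t
    rw [hT] at hi
    obtain ⟨J, hJ, hJi, hJ1⟩ := exists_coprime_lift (N := Nat.card G) (a := 2 ^ m) (b := 3 ^ 1 * r) (by rw [hG, mul_assoc])
      (Nat.Coprime.mul_right (Nat.Coprime.pow_left m (by norm_num)) (((Nat.coprime_primes Nat.prime_two hr).2 (by omega)).pow_left m)) hi
    have hyJ : y ^ J = y := by
      conv_rhs => rw [← pow_one y]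
      refine pow_eq_pow_iff_modEq.2 ?_
      rw [hy]
      exact hJ1.of_dvd (dvd_mul_left r _)
    have htJ : (t : G) ^ J = (t : G) ^ i := pow_eq_pow_iff_modEq.2
      (hJi.of_dvd (by rw [← hT, Subgroup.orderOf_coe]; exact orderOf_dvd_natCard t))
    rw [Subgroup.coe_pow, ← htJ]
    by_contra hne
    set θJ := Blocks.powChar hJ θ with hθJ
    set θj := Blocks.powChar hj θ with hθj
    set θK := Blocks.powChar hj θJ with hθK
    have d1 : charDegree (θJ : G → ℂ) = 3 := by
      rw [← hθ3]; unfold charDegree; rw [hθJ, Blocks.powChar_apply, one_pow]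
    have d2 : charDegree (θj : G → ℂ) = 3 := by
      rw [← hθ3]; unfold charDegree; rw [hθj, Blocks.powChar_apply, one_pow]
    have d3 : charDegree (θK : G → ℂ) = 3 := by
      rw [← d1]; unfold charDegree; rw [hθK, Blocks.powChar_apply, one_pow]
    have vJ : (θJ : G → ℂ) y = (θ : G → ℂ) y := by rw [hθJ, Blocks.powChar_apply, hyJ]
    have vj : (θj : G → ℂ) y ≠ (θ : G → ℂ) y := by rwa [hθj, Blocks.powChar_apply]
    have vK : (θK : G → ℂ) y ≠ (θ : G → ℂ) y := by
      rwa [hθK, Blocks.powChar_apply, hθJ, Blocks.powChar_apply, ← pow_mul, mul_comm, pow_mul, hyJ]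
    have n1 : θ ≠ θJ := fun e => hne (congrFun (congrArg Subtype.val e) (t : G)).symm
    have n2 : θj ≠ θK := fun e => n1 (Blocks.powChar_injective hj e)
    have hcard : ({θ, θJ, θj, θK} : Finset (IrrCharacter G)).card = 4 := by
      rw [Finset.card_insert_of_notMem, Finset.card_insert_of_notMem, Finset.card_pair n2]
      · simp only [Finset.mem_insert, Finset.mem_singleton, not_or]
        exact ⟨fun e => vj (e ▸ vJ), fun e => vK (e ▸ vJ)⟩
      · simp only [Finset.mem_insert, Finset.mem_singleton, not_or]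
        exact ⟨n1, fun e => vj (e ▸ rfl), fun e => vK (e ▸ rfl)⟩
    have := hN {θ, θJ, θj, θK} (by simp [hθ3, d1, d2, d3])
    omega
  have hm : m ≤ 4 := by
    have hb := rational_bound (isCharacter_res (isCharacter_of_irr θ.2) (T : Subgroup G))
      (fun t e => Subtype.ext (hf t e)) hratT Nat.prime_two (n := 3) hθ3
    rw [hT, Nat.Prime.factorization_pow Nat.prime_two] at hb
    simpa [Finset.sum_range_succ] using hb
  have hnab : ¬ IsMulCommutative G := fun h => by
    obtain ⟨a, b, hab⟩ := hna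
    exact hab (h.is_comm.comm a b)
  have hle : Nat.card G ≤ 336 := by
    rw [hG]
    calc 2 ^ m * 3 ^ 1 * r ≤ 2 ^ 4 * 3 ^ 1 * 7 := by gcongr; norm_num
      _ = 336 := by norm_num
  rcases Cfsg.Agent.S0496.result hnab (hle.trans (by norm_num)) with h | h | h | h | h | h
  · exact Or.inl (H29.Dickson.iso_alternating_five_of_simple h)
  · haveI := Fact.mk (show Nat.Prime 7 by norm_num)
    exact Or.inr (Cfsg.Agent.S0495.result h (ZMod.card 7))
  all_goals omega

end CfsgLib.SmallCof
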