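import Mathlib
import Cfsg.Agent.SmallCof.CaseThree
import Cfsg.Agent.SmallCof.CaseFour
import Cfsg.Agent.S0144
import Cfsg.Agent.S0992

/-!
Simple groups of order `4·p^a·q^b` and `3·p^a·q^b`.
-/

set_option autoImplicit false
set_option linter.style.haveILetI false
set_option linter.unusedSectionVars false

namespace CfsgLib.SmallCof

open Cfsg

universe u

variable {G : Type u} [Group G] [Finite G] [IsSimpleGroup G]

theorem no_two_primes (hna : ∃ x y : G, x * y ≠ y * x) {p q a b : ℕ} (hp : p.Prime) (hq : q.Prime)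
    (hG : Nat.card G = p ^ a * q ^ b) : False := by
  obtain ⟨x, y, hxy⟩ := hna
  exact hxy (IsSimpleGroup.comm_iff_isSolvable.2 (Cfsg.Agent.S0144.result p q a b hp hq hG) x y)

theorem three_not_odd (hna : ∃ x y : G, x * y ≠ y * x) {o : ℕ} (ho : Odd o) (h3 : ¬ 3 ∣ o)
    (hG : Nat.card G = o * 3) : False := by
  haveI := Fact.mk Nat.prime_three
  have hne : Nat.card G ≠ 0 := Nat.card_pos.ne'
  have hmin : (Nat.card G).minFac = 3 := by
    have h1 : (Nat.card G).minFac ≤ 3 := Nat.minFac_le_of_dvd (by norm_num) (hG ▸ dvd_mul_left 3 o)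
    have h2 := (Nat.minFac_prime (n := Nat.card G) (by rw [hG]; omega)).two_le
    have h4 : (Nat.card G).minFac ≠ 2 := fun e => by
      have h := Nat.minFac_dvd (Nat.card G)
      rw [e, hG] at h
      exact Nat.not_even_iff_odd.2 (ho.mul (by decide : Odd 3)) (even_iff_two_dvd.2 h)
    omega
  obtain ⟨S⟩ : Nonempty (Sylow 3 G) := inferInstance
  have hS : Nat.card (S : Subgroup G) = 3 := by
    rw [Sylow.card_eq_multiplicity, hG, Nat.factorization_mul (by intro e; simp [e] at ho) (by norm_num), Finsupp.add_apply,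
      Nat.factorization_eq_zero_of_not_dvd h3, Nat.prime_three.factorization_self]
    norm_num
  haveI := isCyclic_of_prime_card (α := (S : Subgroup G)) hS
  have hc := IsCyclic.isComplement' hmin (P := S) inferInstance
  have hmul := hc.card_mul_card
  rcases IsSimpleGroup.eq_bot_or_eq_top_of_normal
    (MonoidHom.transferSylow S ((inferInstance : IsCyclic (S : Subgroup G)).normalizer_le_centralizer hmin)).ker
    inferInstance with e | e <;> rw [e] at hmul
  · rw [Subgroup.card_bot, one_mul, hS] at hmul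
    obtain ⟨a, b, hab⟩ := hna
    haveI := isCyclic_of_prime_card (α := G) hmul.symm
    exact hab (mul_comm' a b)
  · rw [Subgroup.card_top, hS] at hmul
    have := Nat.card_pos (α := G)
    omega

theorem main_four (hna : ∃ x y : G, x * y ≠ y * x) {p q a b : ℕ} (hp : p.Prime) (hq : q.Prime) (hpq : p ≠ q)
    (hG : Nat.card G = 4 * p ^ a * q ^ b) : Nonempty (G ≃* alternatingGroup (Fin 5)) := by
  rcases eq_or_ne p 2 with rfl | hp2
  · exact (no_two_primes hna hp hq (a := 2 + a) (b := b) (by rw [hG, pow_add]; norm_num)).elim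
  rcases eq_or_ne q 2 with rfl | hq2
  · exact (no_two_primes hna hq hp (a := 2 + b) (b := a) (by rw [hG, pow_add]; ring)).elim
  have hnab : ¬ IsMulCommutative G := fun h => by
    obtain ⟨x, y, hxy⟩ := hna
    exact hxy (h.is_comm.comm x y)
  have ho : Odd (p ^ a * q ^ b) := ((hp.odd_of_ne_two hp2).pow).mul ((hq.odd_of_ne_two hq2).pow)
  have h8 : ¬ 8 ∣ Nat.card G := fun h => by
    rw [hG, mul_assoc, show 8 = 4 * 2 from rfl] at h
    exact Nat.not_even_iff_odd.2 ho (even_iff_two_dvd.2 (Nat.dvd_of_mul_dvd_mul_left (by norm_num) h))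
  obtain ⟨T⟩ : Nonempty (Sylow 2 G) := inferInstance
  have hi := (Cfsg.Agent.S0992.result hnab (hG ▸ ((by decide : Even 4).mul_right _).mul_right _) h8 T).2
  have h3 : 3 ∣ Nat.card G :=
    hi ▸ (Subgroup.relIndex_dvd_card _ _).trans (Subgroup.card_subgroup_dvd_card _)
  rw [hG] at h3
  rcases Nat.prime_three.dvd_mul.1 h3 with h | h
  · rcases Nat.prime_three.dvd_mul.1 h with h | h
    · norm_num at h
    · obtain rfl := (Nat.prime_dvd_prime_iff_eq Nat.prime_three hp).1 (Nat.prime_three.dvd_of_dvd_pow h)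
      exact case_four hna hq ((Nat.Prime.five_le_of_ne_two_of_ne_three hq hq2 hpq.symm)) (A := a) (B := b)
        (by rw [hG, mul_assoc])
  · obtain rfl := (Nat.prime_dvd_prime_iff_eq Nat.prime_three hq).1 (Nat.prime_three.dvd_of_dvd_pow h)
    exact case_four hna hp ((Nat.Prime.five_le_of_ne_two_of_ne_three hp hp2 hpq)) (A := b) (B := a)
      (by rw [hG]; ring)

theorem three_core (hna : ∃ x y : G, x * y ≠ y * x) {r m n : ℕ} (hr : r.Prime) (hr5 : 5 ≤ r) (hmn : m ≤ 2 ∨ n ≤ 2)
    (hG : Nat.card G = 2 ^ m * r ^ n * 3) :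
    Nonempty (G ≃* alternatingGroup (Fin 5)) ∨
      Nonempty (G ≃* Matrix.ProjectiveSpecialLinearGroup (Fin 2) (ZMod 7)) := by
  have ho : Odd (r ^ n * 3) := ((hr.odd_of_ne_two (by omega)).pow).mul (by decide)
  by_cases hm : m ≤ 2
  · rcases Nat.eq_zero_or_pos m with rfl | hm0
    · refine (three_not_odd hna ((hr.odd_of_ne_two (by omega)).pow (n := n)) (fun h => ?_) (by rw [hG]; norm_num)).elim
      have := (Nat.prime_dvd_prime_iff_eq Nat.prime_three hr).1 (Nat.prime_three.dvd_of_dvd_pow h)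
      omega
    have hnab : ¬ IsMulCommutative G := fun h => by
      obtain ⟨x, y, hxy⟩ := hna
      exact hxy (h.is_comm.comm x y)
    have hk : ∀ k, 2 ^ k ∣ Nat.card G → k ≤ m := fun k h => by
      rw [hG, mul_assoc] at h
      exact (Nat.pow_dvd_pow_iff_le_right (by norm_num)).1 ((ho.coprime_two_left.pow_left k).dvd_of_dvd_mul_right h)
    have h8 : ¬ 8 ∣ Nat.card G := fun h => by have := hk 3 h; omega
    obtain ⟨T⟩ : Nonempty (Sylow 2 G) := inferInstance
    have hK := (Cfsg.Agent.S0992.result hnab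
      (hG ▸ ((even_iff_two_dvd.2 (dvd_pow_self 2 hm0.ne')).mul_right _).mul_right _) h8 T).1
    have h2 := hk 2 (by
      rw [show (2 : ℕ) ^ 2 = Nat.card (T : Subgroup G) from hK.card_four.symm]
      exact Subgroup.card_subgroup_dvd_card _)
    obtain rfl : m = 2 := by omega
    exact Or.inl (case_four hna hr hr5 (A := 1) (B := n) (by rw [hG]; ring))
  · obtain rfl | rfl | rfl : n = 0 ∨ n = 1 ∨ n = 2 := by omega
    · exact (no_two_primes hna Nat.prime_two Nat.prime_three (a := m) (b := 1) (by rw [hG]; norm_num)).elim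
    · exact three_once hna (m := m) hr hr5 (by rw [hG]; ring)
    · exact (not_three_sq hna hr hr5 hG).elim

theorem main_three (hna : ∃ x y : G, x * y ≠ y * x) {p q a b : ℕ} (hp : p.Prime) (hq : q.Prime) (hpq : p ≠ q)
    (ha : a ≤ 2) (hG : Nat.card G = 3 * p ^ a * q ^ b) :
    Nonempty (G ≃* alternatingGroup (Fin 5)) ∨
      Nonempty (G ≃* Matrix.ProjectiveSpecialLinearGroup (Fin 2) (ZMod 7)) := by
  rcases eq_or_ne p 3 with rfl | hp3
  · exact (no_two_primes hna hp hq (a := 1 + a) (b := b) (by rw [hG, pow_add, pow_one])).elim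
  rcases eq_or_ne q 3 with rfl | hq3
  · exact (no_two_primes hna hq hp (a := 1 + b) (b := a) (by rw [hG, pow_add, pow_one]; ring)).elim
  rcases eq_or_ne p 2 with rfl | hp2
  · exact three_core hna hq (Nat.Prime.five_le_of_ne_two_of_ne_three hq hpq.symm hq3) (Or.inl ha) (m := a) (n := b)
      (by rw [hG]; ring)
  rcases eq_or_ne q 2 with rfl | hq2
  · exact three_core hna hp (Nat.Prime.five_le_of_ne_two_of_ne_three hp hp2 hp3) (Or.inr ha) (m := b) (n := a)
      (by rw [hG]; ring)
  refine (three_not_odd hna (((hp.odd_of_ne_two hp2).pow (n := a)).mul ((hq.odd_of_ne_two hq2).pow (n := b)))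
    (fun h => ?_) (by rw [hG]; ring)).elim
  rcases Nat.prime_three.dvd_mul.1 h with h | h
  · exact hp3 ((Nat.prime_dvd_prime_iff_eq Nat.prime_three hp).1 (Nat.prime_three.dvd_of_dvd_pow h)).symm
  · exact hq3 ((Nat.prime_dvd_prime_iff_eq Nat.prime_three hq).1 (Nat.prime_three.dvd_of_dvd_pow h)).symm

end CfsgLib.SmallCof
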